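import Cfsg.Agent.McL.Gen
import Cfsg.Agent.McL.Low
import Cfsg.Agent.M12C.Gen

/-! The last step of the identification, for an abstract model. -/

set_option autoImplicit false
set_option linter.unusedSectionVars false

namespace Cfsg.Agent.McL

open Subgroup Cfsg.Agent.Local Cfsg.Agent.Mat

variable {G M : Type*} [Group G] [Finite G] [Group M] [Finite M]

theorem inj_of_card {f : M →* G} (h : Nat.card M ≤ Nat.card f.range) : Function.Injective f := by
  have h1 := card_eq_card_quotient_mul_card_subgroup f.ker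
  rw [Nat.card_congr (QuotientGroup.quotientKerEquivRange f).toEquiv] at h1
  have h2 : 0 < Nat.card f.ker := Nat.card_pos
  have h3 : 0 < Nat.card f.range := Nat.card_pos
  rw [← f.ker_eq_bot_iff, ← card_eq_one]
  nlinarith

theorem bij_of_model (hc : Nat.card M = 898128000) (f : M →* G) {t e y s : M} (ht : t * t = 1) (t1 : f t ≠ 1)
    (y1 : y * t * y⁻¹ = e) (y2 : y * e * y⁻¹ = t * e) (hC : Nat.card (centralizer {t}) ≤ 80640)
    (hm : centralizer {f t} ≤ (centralizer {t}).map f) (hc' : Nat.card (centralizer {f t}) = 40320)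
    (cls : ∀ v, v * v = 1 → v ≠ 1 → v ≠ f t → v * f t = f t * v → ∃ g, g * f t = f t * g ∧ g * f e * g⁻¹ = v)
    (s11 : s ^ 11 = 1) (s1 : s ≠ 1) (hs : Nat.card (centralizer {s}) ≤ 22) : Function.Bijective f := by
  have h1 : (centralizer {t}).map f = centralizer {f t} := le_antisymm (by
    rintro - ⟨c, hc, rfl⟩
    exact mem_centralizer_singleton_iff.mpr (by rw [← map_mul, mem_centralizer_singleton_iff.mp hc, map_mul])) hm
  have h2 : Nat.card (centralizer {t}) ≤ 40320 := by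
    obtain ⟨k, hk⟩ := card_map_dvd (centralizer {t}) f
    have := card_subgroup_dvd_card (centralizer {t})
    rw [h1, hc'] at hk
    rw [hk] at this hC ⊢
    rw [hc] at this
    have : k ≠ 2 := by rintro rfl; exact absurd this (by decide)
    omega
  have h3 := inj_of_card (f := f.comp (centralizer {t}).subtype) (by
    rwa [MonoidHom.range_comp, range_subtype, h1, hc'])
  have h4 : ∀ g n, f n = 1 → g * t * g⁻¹ * n * (g * t * g⁻¹)⁻¹ = n → n = 1 := fun g n hn h => by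
    have := (injective_iff_map_eq_one _).mp h3 ⟨g⁻¹ * n * g, mem_centralizer_singleton_iff.mpr (by
      nth_rw 1 [← h]
      calc _ = t * (g⁻¹ * n * g) * (t⁻¹ * t) := by group
        _ = _ := by rw [inv_mul_cancel, mul_one])⟩ (by simp [hn])
    simpa [mul_assoc] using congrArg (fun x => g * x.1 * g⁻¹) this
  have y3 : y * y * t * (y * y)⁻¹ = t * e := by rw [← y2, ← y1]; group
  have inj := inj_of_four f (e := e) ht (by rw [← y1, conj_mul, ht]; simp) fun v hv => by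
    simp only [List.mem_cons, List.not_mem_nil, or_false] at hv
    rcases hv with rfl | rfl | rfl
    exacts [by simpa using h4 1, y1 ▸ h4 y, y3 ▸ h4 (y * y)]
  refine ⟨inj, MonoidHom.range_eq_top.mp (by_contra fun hK => ?_)⟩
  have h5 : Nat.card f.range = 898128000 := (Nat.card_congr (f.ofInjective inj).toEquiv).symm.trans hc
  have h6 : centralizer {f t} ≤ f.range := hm.trans (map_le_range f _)
  have h7 := card_mul_relIndex h6
  rw [hc', h5] at h7
  obtain ⟨D, hD, d1, d2⟩ := exists_odd (by rw [← map_mul, ht, map_one]) t1 h6 (fun v hv v2 v1 => by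
    obtain ⟨g, hg, e1⟩ := M12C.exists_conj_mem_of_odd (L := centralizer {f t}) (by omega) hv v2
    by_cases e2 : g⁻¹ * v * g = f t
    · exact ⟨g, hg, by rw [← e2]; group⟩
    obtain ⟨k, hk, e3⟩ := cls _ (by simpa using CIT.conj_sq (g := g⁻¹) v2) (CIT.inv_conj_ne_one v1) e2
      (mem_centralizer_singleton_iff.mp e1)
    refine ⟨g * k * f y, mul_mem (mul_mem hg (h6 (mem_centralizer_singleton_iff.mpr hk))) ⟨y, rfl⟩, ?_⟩
    calc _ = g * (k * f (y * t * y⁻¹) * k⁻¹) * g⁻¹ := by simp only [map_mul, map_inv]; group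
      _ = _ := by rw [y1, e3]; group) hK
  have h8 := M11.card_inf_centralizer_mul f.range (f t)
  rw [inf_eq_right.mpr h6, hc', h5] at h8
  rw [← map_comap_eq_self hD, card_map_of_injective inj] at d1 d2
  exact no_odd hc s11 s1 hs d1 (dvd_trans ⟨81, by omega⟩ d2)

theorem step {ms xm : List M} {gs xs : List G} (l1 : ms.length = 15) (l2 : gs.length = 15)
    (l3 : xm.length = xs.length) (rel : ∀ v, ev xm v = 1 → ev xs v = 1) {rels rels' subs : List (List ℕ)}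
    {iv P E : ℕ} {J : List ℕ} {ws : List (List ℕ × ℕ)} (h : memChk ⟨15, iv, P, E⟩ rels rels' subs J ws = true)
    (h1 : ∀ r ∈ rels, ev ms r = 1) (h2 : ∀ r ∈ rels, ev gs r = 1)
    (h3 : ∀ r ∈ subs, ∃ v, ev ms r = ev xm v ∧ ev gs r = ev xs v) : ∀ p ∈ ws, ev ms p.1 = 1 → ev gs p.1 = 1 := by
  intro p hp e
  have e1 := ev_zip (l1.trans l2.symm)
  obtain ⟨v, hv⟩ := exists_word (memChk_spec (gs := ms.zip gs) (H := cl (xm.zip xs)) h (by simp [l1, l2])
    (fun r hr => by rw [e1, h1 r hr, h2 r hr]; rfl) (fun r hr => by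
      obtain ⟨v, a, b⟩ := h3 r hr
      rw [e1, a, b, ← ev_zip l3]
      exact ev_mem_cl _ _) p hp)
  rw [e1, ev_zip l3, Prod.mk.injEq] at hv
  rw [← hv.2, rel v (hv.1.trans e)]

theorem relE_of {gs : List G} (h : ∀ r ∈ [[7, 8], [9, 10], [11, 12], [13, 14], [3, 3], [4, 4], [5, 5],
      [13, 10, 1, 2, 7, 13, 9, 14, 4, 10, 7, 9, 8], [9, 1, 6, 8, 13, 10, 7, 10, 5, 9, 13, 10, 8],
      [13, 11, 1, 6, 8, 13, 12, 14, 8, 11, 8, 11, 4], [12, 1, 2, 7, 13, 11, 7, 11, 13, 12, 3, 8], [13, 11, 10, 12, 9, 14],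
      [3, 11, 14, 12, 9, 14, 10, 5, 9, 3, 11, 14, 12, 9, 14, 10, 5, 9, 3, 11, 14, 12, 9, 14, 10, 5, 9]], ev gs r = 1) :
    ev gs [7, 10, 8, 9, 12, 7, 12, 7, 7, 10, 8, 9, 12, 7, 12, 7, 7, 10, 8, 9, 12, 7, 12, 7] = 1 := by
  simp only [List.forall_mem_cons, ev, mul_one] at h ⊢
  obtain ⟨h1, h2, h3, h4, h5, h6, h7, a1, a2, b1, b2, x2, x3, -⟩ := h
  rw [eq_inv_of_mul_eq_one_right h1, eq_inv_of_mul_eq_one_right h2, eq_inv_of_mul_eq_one_right h3,
    eq_inv_of_mul_eq_one_right h4] at *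
  generalize gs.getD 1 1 = e, gs.getD 2 1 = u, gs.getD 3 1 = v, gs.getD 4 1 = p, gs.getD 5 1 = q, gs.getD 6 1 = s,
    gs.getD 7 1 = y, gs.getD 9 1 = a, gs.getD 11 1 = b, gs.getD 13 1 = r at *
  have k1 : y * a⁻¹ * y⁻¹ * a * p⁻¹ = r * a⁻¹ * b * y * (v⁻¹ * b * r⁻¹ * b⁻¹) * (r * a⁻¹ * b * y)⁻¹ := by
    rw [← one_mul (_ * p⁻¹), ← a1, ← one_mul (v⁻¹ * b * r⁻¹ * b⁻¹), ← (conj_eq_one_iff (a := y⁻¹)).mpr b2]
    group
  have k2 : p⁻¹ * b⁻¹ * y * b⁻¹ * y = r * b * a⁻¹ * y * (a * r⁻¹ * a⁻¹ * q⁻¹ * a) * (r * b * a⁻¹ * y)⁻¹ := by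
    rw [← one_mul (_ * y), ← b1, ← one_mul (a * r⁻¹ * a⁻¹ * q⁻¹ * a), ← (conj_eq_one_iff (a := y⁻¹)).mpr a2]
    group
  have k3 : r * b * a⁻¹ = r * a⁻¹ * b := by
    rw [← one_mul (r * a⁻¹ * b), ← x2]
    group
  rw [inv_eq_of_mul_eq_one_right h6] at k1 k2
  rw [inv_eq_of_mul_eq_one_right h5] at k1
  rw [k3, inv_eq_of_mul_eq_one_right h7] at k2
  have k4 : y * a⁻¹ * y⁻¹ * a * (b⁻¹ * y * b⁻¹ * y) = y * a⁻¹ * y⁻¹ * a * p * (p * b⁻¹ * y * b⁻¹ * y) := by
    rw [← one_mul (b⁻¹ * y * b⁻¹ * y), ← h6]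
    group
  rw [k1, k2, conj_mul] at k4
  calc _ = (y * a⁻¹ * y⁻¹ * a * (b⁻¹ * y * b⁻¹ * y)) ^ 3 := by simp only [pow_succ, pow_zero, one_mul, mul_assoc]
    _ = 1 := by
      rw [k4, conj_pow, conj_eq_one_iff, ← x3]
      simp only [pow_succ, pow_zero, one_mul, mul_assoc]

end Cfsg.Agent.McL
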