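import Cfsg.Agent.McL.PinF

/-! The action of an element of order three on the centralizer of the four-group. -/

set_option autoImplicit false
set_option linter.unusedSectionVars false

namespace Cfsg.Agent.McL

open Cfsg.Agent.Mat Cfsg.Agent.M12C

variable {G : Type*} [Group G] [Finite G]

/-- `f` identifies a subgroup containing the centralizer of the four-group. -/
structure Lq (f : cl ms16 →* G) : Prop where
  inj : Function.Injective f
  range : ∀ g, g * f (w [0]) = f (w [0]) * g → g * f (w [1]) = f (w [1]) * g → ∃ u, f u = g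

/-- `y` rotates the four-group. -/
def Rot (f : cl ms16 →* G) (y : G) : Prop :=
  y * f (w [0]) * y⁻¹ = f (w [1]) ∧ y * f (w [1]) * y⁻¹ = f (w [0] * w [1])

/-- `y` acts in the standard way. -/
def Pin (f : cl ms16 →* G) (y : G) : Prop := List.Forall₂ (fun j i => y * f j * y⁻¹ = f i) j7 i7

theorem conj_comp {a b x y z : G} (h1 : b * x * b⁻¹ = y) (h2 : a * y * a⁻¹ = z) : a * b * x * (a * b)⁻¹ = z := by
  rw [← h2, ← h1]
  group

theorem conj_f (f : cl ms16 →* G) {a x y : cl ms16} (h : a * x * a⁻¹ = y) : f a * f x * (f a)⁻¹ = f y := by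
  rw [← h, map_mul, map_mul, map_inv]

theorem cube_aux {M : Type*} [Group M] {a b j : M} (c : a * b = b * a) (hj : j ∈ [1, a, a * a]) :
    j * b * j⁻¹ = b ∧ j * a * j⁻¹ = a := by
  simp only [List.mem_cons, List.not_mem_nil, or_false] at hj
  rcases hj with rfl | rfl | rfl
  exacts [by simp, ⟨mul_inv_eq_iff_eq_mul.mpr c, by group⟩, ⟨mul_inv_eq_iff_eq_mul.mpr (Commute.mul_left c c), by group⟩]

theorem ze : w [0] * w [1] * w [1] = w [0] ∧ w [1] * (w [0] * w [1]) = w [0] := by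
  obtain ⟨c0, -, c1, -⟩ := F8
  exact ⟨by rw [mul_assoc, c1, mul_one], by rw [← mul_assoc, c0, mul_assoc, c1, mul_one]⟩

theorem Rot.three {f : cl ms16 →* G} {y : G} (h : Rot f y) : y * f (w [0] * w [1]) * y⁻¹ = f (w [0]) := by
  rw [map_mul, ← conj_mul, h.1, h.2, ← map_mul, ze.2]

namespace Lq

variable {f : cl ms16 →* G} (h : Lq f)
include h

theorem comm_iff {u v : cl ms16} : f u * f v = f v * f u ↔ u * v = v * u := by
  rw [← map_mul, ← map_mul, h.inj.eq_iff]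

theorem img {y : G} (hy : Rot f y) {c : cl ms16} (hc : c * w [1] = w [1] * c) :
    ∃ i, y * f c * y⁻¹ = f i ∧ i * w [1] = w [1] * i := by
  have k0 : ∀ {a b : G}, a * b = b * a → y * a * y⁻¹ * (y * b * y⁻¹) = y * b * y⁻¹ * (y * a * y⁻¹) := fun e => by
    rw [conj_mul, conj_mul, e]
  have k1 : y * f c * y⁻¹ * f (w [1]) = f (w [1]) * (y * f c * y⁻¹) := by
    rw [← hy.1]; exact k0 (h.comm_iff.mpr (F8.1 c))
  obtain ⟨i, hi⟩ := h.range (y * f c * y⁻¹) (by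
    rw [← hy.three]
    exact k0 (h.comm_iff.mpr (by rw [← mul_assoc, F8.1, mul_assoc, hc, mul_assoc]))) k1
  exact ⟨i, hi.symm, h.comm_iff.mp (hi ▸ k1)⟩

theorem rel {y : G} (hy : Rot f y) {js is : List (cl ms16)} (e : List.Forall₂ (fun j i => y * f j * y⁻¹ = f i) js is)
    (v : List ℕ) : Rel (w [0]) (w [1]) js is v := by
  have e4 := act_ev f e v
  refine ⟨fun e => h.inj ?_, fun e => h.inj ?_, fun e => h.inj ?_, fun e => h.inj ?_⟩ <;> rw [← e4, e]
  exacts [by simp, hy.1, hy.2, hy.three]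

theorem exists_pin {y : G} (hy : Rot f y) : ∃ y, Pin f y := by
  obtain ⟨c0, -, -, -, -, -, -, c7, c8, c9, c10, c11, c12, c13⟩ := F8
  obtain ⟨y, hy, i0, h0, e0⟩ : ∃ y, Rot f y ∧ ∃ i0 ∈ [w [7], w [7] * w [7]], y * f (w [7]) * y⁻¹ = f i0 := by
    obtain ⟨i, e1, e2⟩ := h.img hy (c9 (w [7]) (by simp))
    rcases F1 i e2 (h.inj (by rw [map_mul, map_mul, ← e1, conj_mul, conj_mul, ← map_mul, ← map_mul, c7]; simp)) with
      rfl | ⟨x, e3, e4⟩
    · exact absurd (h.inj (by simpa using e1)) c8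
    · refine ⟨f x * y, ⟨conj_comp hy.1 (conj_f f (mul_inv_eq_iff_eq_mul.mpr e3)), conj_comp hy.2 (conj_f f
        (mul_inv_eq_iff_eq_mul.mpr (by rw [← mul_assoc, c0, mul_assoc, e3, mul_assoc])))⟩, x * i * x⁻¹, by
          simpa using e4, conj_comp e1 (conj_f f rfl)⟩
  obtain ⟨i1, e1, f1⟩ := h.img hy (c9 (w [2]) (by simp))
  obtain ⟨i2, e2, f2⟩ := h.img hy (c9 (w [4]) (by simp))
  have g3 : List.Forall₂ (fun j i => y * f j * y⁻¹ = f i) j3 [i0, i1, i2] := .cons e0 (.cons e1 (.cons e2 .nil))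
  obtain ⟨j, hj, p1, p2⟩ := F2 i0 h0 i1 f1 (fun v _ => h.rel hy (.cons e0 (.cons e1 .nil)) v) i2 f2
    (fun v _ => h.rel hy (.cons e0 (.cons e2 .nil)) v) fun v _ => h.rel hy g3 v
  have k1 : ∀ g, Ok g → y * f g * y⁻¹ = f (al j3 [i0, i1, i2] W8 g) := fun g hg => by
    rw [al, ← act_ev f g3, hg]
  have k2 : ∀ g g', Ok4 [i0, i1, i2] (j * g * j⁻¹) g' → y * y * (y * y) * f j * f g * (y * y * (y * y) * f j)⁻¹ = f g' :=
    fun g g' hg => conj_comp (conj_f f rfl) (conj_comp (conj_comp (k1 _ hg.1) (k1 _ hg.2.1))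
      (conj_comp (k1 _ hg.2.2.1) ((k1 _ hg.2.2.2.1).trans (congrArg f hg.2.2.2.2))))
  have k3 : j * w [1] * j⁻¹ = w [1] ∧ j * w [7] * j⁻¹ = w [7] := by
    have := cube_aux (M := cl ms16) (a := w [7]) (b := w [1]) (c9 (w [7]) (by simp)) hj
    exact this
  have k4 : y * y * f (w [7]) * (y * y)⁻¹ = f (w [7]) := by
    simp only [List.mem_cons, List.not_mem_nil, or_false] at h0
    rcases h0 with rfl | rfl
    · exact conj_comp e0 e0
    · refine conj_comp e0 ?_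
      rw [map_mul, ← conj_mul, e0, ← map_mul, ← mul_assoc, c7, one_mul]
  have k5 := conj_comp (conj_f f k3.2) (conj_comp k4 k4)
  have k6 := k2 _ _ p1
  have k7 := k2 _ _ p2
  refine ⟨y * y * (y * y) * f j, .cons (conj_comp (conj_f f (mul_inv_eq_iff_eq_mul.mpr (c0 j)))
    (conj_comp (conj_comp hy.1 hy.2) (conj_comp hy.three hy.1))) (.cons (conj_comp (conj_f f k3.1)
    (conj_comp (conj_comp hy.2 hy.three) (conj_comp hy.1 hy.2))) (.cons k6 (.cons ?_ (.cons k7 (.cons ?_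
      (.cons k5 .nil))))))⟩
  · rw [← c10, ← c12, map_mul, map_mul, map_mul, map_mul, map_inv, ← conj_mul, ← conj_mul, ← conj_inv, k5, k6]
  · rw [← c11, map_mul, map_mul, map_inv, ← conj_mul, ← conj_mul, ← conj_inv, k5, k7]
    exact conj_f f c13

theorem cen {g : G} (e : ∀ v ∈ [[0], [0, 1], [2], [4], [6]], g * f (ev j7 v) * g⁻¹ = f (ev j7 v)) :
    g = 1 ∨ g = f (w [0]) ∨ g = f (w [1]) ∨ g = f (w [0] * w [1]) := by
  simp only [List.forall_mem_cons, ev, List.getD_cons_zero, List.getD_cons_succ, mul_one, mul_inv_eq_iff_eq_mul] at e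
  obtain ⟨e1, e2, e3, e4, e5, -⟩ := e
  obtain ⟨u, rfl⟩ := h.range g e1 (mul_left_cancel (a := f (w [0])) (by
    rw [← mul_assoc, ← e1, mul_assoc, ← map_mul, e2, map_mul, mul_assoc]))
  rcases F3 u (h.comm_iff.mp e5) (h.comm_iff.mp e3) (h.comm_iff.mp e4) with rfl | rfl | rfl | rfl <;> simp

theorem ne : f (w [0]) ≠ f (w [1]) ∧ f (w [1]) ≠ f (w [0] * w [1]) ∧ f (w [0] * w [1]) ≠ f (w [0]) := by
  obtain ⟨-, c1, c2, c3, c4, -⟩ := F8
  refine ⟨fun e => c4 (h.inj e).symm, fun e => c3 ?_, fun e => c3 (mul_eq_left.mp (h.inj e))⟩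
  have := h.inj e
  rw [eq_comm, mul_eq_right] at this
  have h2 := F4 2 (by simp)
  have h3 := h2.2.1 1 (by decide) 0 (by decide) (by rw [h2.2.2.2.1, h2.2.2.1, this])
  cases h3

omit h in
theorem _root_.Cfsg.Agent.McL.Pin.rot {y : G} (hy : Pin f y) : Rot f y :=
  ⟨(List.forall₂_cons.mp hy).1, (List.forall₂_cons.mp (List.forall₂_cons.mp hy).2).1⟩

theorem cube {y : G} (hy : Pin f y) : y * y * y = 1 := by
  have k1 : ∀ {u v : List ℕ}, ev i7 u = ev j7 v → y * f (ev j7 u) * y⁻¹ = f (ev j7 v) := fun e => by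
    rw [act_ev f hy, e]
  have k2 := F9.2
  simp only [List.forall_mem_cons] at k2
  obtain ⟨a1, a2, a3, a4, -⟩ := k2
  have k3 : y * (y * y * y) * y⁻¹ = y * y * y := by group
  rcases h.cen (g := y * y * y) (by
    simp only [List.forall_mem_cons]
    exact ⟨conj_comp (k1 a1.1) (conj_comp (k1 a1.2.1) (k1 a1.2.2)), conj_comp (k1 a1.2.2) (conj_comp (k1 a1.1) (k1 a1.2.1)),
      conj_comp (k1 a2.1) (conj_comp (k1 a2.2.1) (k1 a2.2.2)), conj_comp (k1 a3.1) (conj_comp (k1 a3.2.1) (k1 a3.2.2)),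
      conj_comp (k1 a4.1) (conj_comp (k1 a4.2.1) (k1 a4.2.2)), by simp⟩) with e | e | e | e
  · exact e
  all_goals rw [e] at k3
  exacts [absurd (k3.symm.trans hy.rot.1) h.ne.1, absurd (k3.symm.trans hy.rot.2) h.ne.2.1,
    absurd (k3.symm.trans hy.rot.three) h.ne.2.2]

theorem exists_pin' {y : G} (hy : Rot f y) : ∃ y, Pin f y ∧ f (w [6]) * y * (f (w [6]) * y) = 1 := by
  obtain ⟨y, hy⟩ := h.exists_pin hy
  obtain ⟨c0, c1, -, -, -, c5, c6, -⟩ := F8
  have k1 : ∀ {u v : List ℕ}, w [6] * ev i7 u * (w [6])⁻¹ = ev j7 v →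
      f (w [6]) * y * f (ev j7 u) * (f (w [6]) * y)⁻¹ = f (ev j7 v) := fun e => conj_comp (act_ev f hy _) (conj_f f e)
  have k2 := F9.1
  simp only [List.forall_mem_cons] at k2
  obtain ⟨a1, a2, a3, a4, -⟩ := k2
  have k3 : f (w [6]) * y * (f (w [6]) * y * (f (w [6]) * y)) * (f (w [6]) * y)⁻¹ = f (w [6]) * y * (f (w [6]) * y) := by
    group
  have k4 := k1 a1.1
  have k5 := k1 a1.2
  rcases h.cen (g := f (w [6]) * y * (f (w [6]) * y)) (by
    simp only [List.forall_mem_cons]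
    exact ⟨conj_comp k4 k5, conj_comp k5 k4, conj_comp (k1 a2.1) (k1 a2.2), conj_comp (k1 a3.1) (k1 a3.2),
      conj_comp (k1 a4.1) (k1 a4.2), by simp⟩) with e | e | e | e
  · exact ⟨y, hy, e⟩
  all_goals simp only [ev, List.getD_cons_zero, List.getD_cons_succ, mul_one] at k4 k5
  · rw [e] at k3
    exact absurd (k4.symm.trans k3) h.ne.2.2
  · refine ⟨y * f (w [0]), List.Forall₂.imp (fun j i e => conj_comp (conj_f f
      (mul_inv_eq_iff_eq_mul.mpr (c0 j).symm)) e) hy, ?_⟩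
    calc _ = f (w [6]) * y * f (w [0]) * (f (w [6]) * y)⁻¹ * (f (w [6]) * y * (f (w [6]) * y)) * f (w [0]) := by group
      _ = 1 := by rw [k4, e, ← map_mul, ← map_mul, ze.1, c1, map_one]
  · rw [e] at k3
    exact absurd (k3.symm.trans k5) h.ne.2.2

theorem pow5 {k : ℕ} (hk : k ∈ [2, 4]) {g : G} {σ : ℕ → ℕ} (h0 : ∀ p < 16, σ p < 16)
    (h1 : ∀ p < 16, g * f (w (bw k p)) * g⁻¹ = f (w (bw k (σ p))))
    (h2 : ∀ p < 16, σ (σ (σ (σ (σ p)))) = p ∧ (σ p = p → p = 0)) : g ^ 5 = 1 := by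
  obtain ⟨a1, a2, a3, a4, a5⟩ := F4 k hk
  have k1 : ∀ p < 16, g ^ 5 * f (w (bw k p)) = f (w (bw k p)) * g ^ 5 := fun p hp => by
    have := conj_comp (h1 _ hp) (conj_comp (h1 _ (h0 _ hp)) (conj_comp (h1 _ (h0 _ (h0 _ hp)))
      (conj_comp (h1 _ (h0 _ (h0 _ (h0 _ hp)))) (h1 _ (h0 _ (h0 _ (h0 _ (h0 _ hp))))))))
    rw [(h2 p hp).1, mul_inv_eq_iff_eq_mul] at this
    simpa only [pow_succ, pow_zero, one_mul] using this
  obtain ⟨u, hu⟩ := h.range (g ^ 5) (a4 ▸ k1 1 (by decide)) (a5 ▸ k1 2 (by decide))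
  rw [← hu] at k1
  obtain ⟨p, hp, rfl⟩ := a1 u (h.comm_iff.mp (k1 2 (by decide))) (h.comm_iff.mp (k1 4 (by decide)))
    (h.comm_iff.mp (k1 8 (by decide)))
  have k2 := h1 p hp
  rw [hu, show g * g ^ 5 * g⁻¹ = g ^ 5 by group, ← hu] at k2
  rw [← hu, (h2 p hp).2 (a2 _ (h0 p hp) _ hp (h.inj k2).symm), a3, map_one]

end Lq

end Cfsg.Agent.McL
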