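import Cfsg.Agent.McL.Fin
import Cfsg.Agent.McL.Pin
import Cfsg.Agent.McL.X
import Cfsg.Agent.McL.TData
import Cfsg.Agent.McL.Rho

/-! The relations hold in the given group. -/

set_option autoImplicit false
set_option linter.unusedSectionVars false

namespace Cfsg.Agent.McL

open Subgroup Cfsg.Agent.Mat Cfsg.Agent.M12C

variable {G : Type*} [Group G] [Finite G]

/-- The data found in the centralizer of an involution. -/
structure Dg (t : G) (xs : List G) : Prop where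
  len : xs.length = 13
  z0 : ev xs [0] = t
  top : cl xs = centralizer {t}
  card : Nat.card (centralizer {t}) = 40320
  rel : ∀ v w, ev xsM v = ev xsM w → ev xs v = ev xs w
  cls : ∀ v, v * v = 1 → v ≠ 1 → v ≠ t → v * t = t * v → ∃ g, g * t = t * g ∧ g * ev xs (defs.getD 1 []) * g⁻¹ = v
  cen : ∀ g, g * t = t * g → g * ev xs (defs.getD 1 []) = ev xs (defs.getD 1 []) * g → g ∈ cl (defsQ.map (ev xs))
  low : 384 ≤ Nat.card (cl (defsQ.map (ev xs)))

theorem exists_dg {t : G} (t1 : t ≠ 1)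
    (h : IsNonsplitDoubleCover (centralizer {t}) (alternatingGroup (Fin 8))) : ∃ xs, Dg t xs := by
  obtain ⟨π, hπ⟩ := exists_cov h (z := ⟨t, mem_centralizer_singleton_iff.mpr rfl⟩)
    (fun e => t1 (congrArg Subtype.val e)) fun g => Subtype.ext (mem_centralizer_singleton_iff.mp g.2)
  obtain ⟨xs, D⟩ := hπ.exists_dc
  have h1 := map_ev (centralizer {t}).subtype xs
  have h2 : (cl (defsQ.map (ev xs))).map (centralizer {t}).subtype =
      cl (defsQ.map (ev (xs.map (centralizer {t}).subtype))) := by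
    rw [map_cl, List.map_map]
    exact congrArg cl (List.map_congr_left fun w _ => h1 w)
  have h3 : ev xs (defs.getD 6 []) * ev xs (defs.getD 1 []) * (ev xs (defs.getD 6 []))⁻¹ =
      ev xs [0] * ev xs (defs.getD 1 []) := by
    rw [mul_inv_eq_iff_eq_mul, ← ev_append, ← ev_append, ← ev_append]
    exact D.rel _ _ (by decide +kernel)
  refine ⟨xs.map (centralizer {t}).subtype, (List.length_map _).trans D.len, by rw [← h1, D.z0]; rfl,
    by rw [← map_cl, D.top, ← MonoidHom.range_eq_map, range_subtype], D.card,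
    fun v w e => by rw [← h1, ← h1, D.rel v w e], fun v v2 v1 vt e => ?_, fun g e1 e2 => h2.le
      ⟨⟨g, mem_centralizer_singleton_iff.mpr e1⟩, D.cen _ (Subtype.ext (by rwa [← h1] at e2)), rfl⟩,
    by rw [← h2, card_map_of_injective (subtype_injective _)]; exact D.low⟩
  rw [← h1]
  obtain ⟨g, e' | e'⟩ := D.cls ⟨v, mem_centralizer_singleton_iff.mpr e⟩ (Subtype.ext v2)
    (fun e => v1 (congrArg Subtype.val e)) fun e => vt (congrArg Subtype.val e)
  · exact ⟨g, mem_centralizer_singleton_iff.mp g.2, congrArg Subtype.val e'⟩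
  · have h4 := conj_comp h3 (a := g) rfl
    rw [← conj_mul, e', D.z0, hπ.cz, mul_inv_cancel_right, ← mul_assoc, hπ.zz, one_mul] at h4
    exact ⟨_, mem_centralizer_singleton_iff.mp (g * ev xs (defs.getD 6 [])).2, congrArg Subtype.val h4⟩

/-- The generators. -/
def gl (xs : List G) (y : G) : List G := ((defs.map (ev xs)).set 7 y).set 8 y⁻¹

theorem isX_iff {a : ℕ} : isX a = true ↔ a < 15 ∧ a ≠ 7 ∧ a ≠ 8 := by
  simp [isX, and_assoc, ← Bool.not_eq_true]

theorem ev_gl (xs : List G) (y : G) {v : List ℕ} (h : allL isX v = true) :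
    ev (gl xs y) v = ev xs (v.flatMap fun a => defs.getD a []) := by
  rw [← ev_subst]
  refine ev_congr fun a ha => ?_
  obtain ⟨-, h1, h2⟩ := isX_iff.mp (allL_iff.mp h a ha)
  simp only [gl, List.getD_eq_getElem?_getD, List.getElem?_set_ne h1.symm, List.getElem?_set_ne h2.symm]

theorem ev_ms {v : List ℕ} (h : allL isX v = true) : ev ms v = ev xsM (v.flatMap fun a => defs.getD a []) := by
  rw [← ev_subst]
  refine ev_congr fun a ha => ?_
  have h1 := allL_iff.mp h a ha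
  have h2 := allN_spec defs_chk a (isX_iff.mp h1).1
  rw [h1, Bool.not_true, Bool.false_or, decide_eq_true_eq] at h2
  rw [h2, show (1 : CQ 275) = ev xsM [] from rfl, List.getD_map]

theorem ev_q (xs : List G) (y : G) {v : List ℕ} (h : allL (Nat.blt · 9) v = true) :
    ev (defsQ.map (ev xs)) v = ev (gl xs y) (v.map qx) ∧ allL isX (v.map qx) = true := by
  induction v with
  | nil => exact ⟨rfl, rfl⟩
  | cons a v ih =>
    obtain ⟨h1, h2⟩ := List.forall_mem_cons.mp (allL_iff.mp h)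
    obtain ⟨h3, h4⟩ := ih (allL_iff.mpr h2)
    rw [List.map_cons, ev, ev, h3, allL_iff, List.forall_mem_cons, ← allL_iff]
    rw [Nat.blt_eq] at h1
    interval_cases a <;> exact ⟨rfl, rfl, h4⟩

theorem ms_relA : (∀ r ∈ relsX ++ relsY, ev ms r = 1) ∧ (∀ r ∈ relsX ++ relsY ++ relsD, ev ms r = 1) ∧
    ∀ r ∈ relsA, ev ms r = 1 := by
  have h : ∀ r ∈ relsA, ev ms r = 1 := fun r hr => of_decide_eq_true (allL_iff.mp ms_rel r (List.mem_append_left _ hr))
  exact ⟨fun r hr => h r (List.mem_append_left _ (List.mem_append_left _ hr)), fun r hr => h r (List.mem_append_left _ hr), h⟩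

theorem G1 : ∀ p ∈ [([0], [1], [1]), ([1], [0, 1], [1, 0]), ([2], [3], [3]), ([3], [2, 3], [3, 2]), ([4], [4, 5], [5, 4]),
    ([5], [4], [4]), ([13], [13], [14])], allL isX (p.2.1 ++ p.2.2) = true ∧ ev ms (p.2.1 ++ p.2.2) = ev ms [] := by
  decide +kernel

theorem G2 : ∀ k ∈ [2, 4], allL isX [k + 7, k + 8] = true ∧ ev ms [k + 7, k + 8] = ev ms [] ∧
    ev ms [k + 8] = ev ms [k + 7, k + 7] ∧ allL isX [k + 8] = true ∧ allL isX [k + 7, k + 7] = true ∧
    ∀ p < 16, allL isX ([k + 7] ++ bw k p ++ [k + 8]) = true := by decide +kernel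

theorem G3 : allL (allL isX) relsX = true ∧ ev ms [0, 0] = 1 ∧ ev ms [7] * ev ms [0] * (ev ms [7])⁻¹ = ev ms [1] ∧
    ev ms [7] * ev ms [1] * (ev ms [7])⁻¹ = ev ms [0] * ev ms [1] ∧ ∀ x ∈ xsM, x * ev ms [0] = ev ms [0] * x := by
  decide +kernel

theorem card_cen {M : Type*} [Group M] {H : Subgroup M} (s : H) :
    Nat.card (centralizer {s}) = Nat.card ↥(H ⊓ centralizer {s.1}) := by
  rw [← card_map_of_injective (subtype_injective H)]
  congr 2
  ext x
  simp only [mem_map, mem_centralizer_singleton_iff, mem_inf, Subtype.ext_iff]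
  exact ⟨fun ⟨y, a, b⟩ => b ▸ ⟨y.2, a⟩, fun ⟨a, b⟩ => ⟨⟨x, a⟩, b, rfl⟩⟩

theorem comm_ev {n : ℕ} [Fact (n ≤ 512)] {xs : List (CQ n)} {z : CQ n} (h : ∀ x ∈ xs, x * z = z * x) (v : List ℕ) :
    ev xs v * z = z * ev xs v :=
  mem_centralizer_singleton_iff.mp (ev_mem (fun x hx => mem_centralizer_singleton_iff.mpr (h x hx)) v)

namespace Dg

variable {t : G} {xs : List G} (D : Dg t xs)
include D

theorem gp (y : G) {v u : List ℕ} (h1 : allL isX v = true) (h2 : allL isX u = true) (h : ev ms v = ev ms u) :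
    ev (gl xs y) v = ev (gl xs y) u := by
  rw [ev_gl xs y h1, ev_gl xs y h2]
  exact D.rel _ _ (by rw [← ev_ms h1, ← ev_ms h2, h])

theorem exists_lq : ∃ f : cl ms16 →* G, Lq f ∧ ∀ l, f (w l) = ev (defsQ.map (ev xs)) l := by
  have h0 : ∀ r ∈ relsQ, ev ms16 r = 1 := by simpa only [allL_iff, decide_eq_true_eq] using ms16_rel
  obtain ⟨f, hf⟩ := exists_hom_words (ms := ms16) (gs := defsQ.map (ev xs)) rfl (fun l hl => presQ l hl) low_ms16 h0
    fun r hr => by
      obtain ⟨h1, h2⟩ := Bool.and_eq_true_iff.mp (allL_iff.mp relsQ_chk r hr)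
      obtain ⟨h3, h4⟩ := ev_q xs 1 h1
      rw [h3]
      exact D.gp 1 (u := []) h4 rfl (of_decide_eq_true h2)
  have h1 := range_eq_cl hf
  have h2 : ∀ l, f (w l) = ev (defsQ.map (ev xs)) l := fun l => by rw [w_eq]; exact hf l
  refine ⟨f, ⟨inj_of_card ((presQ ms16 rfl h0).trans (h1 ▸ D.low)), fun g e1 e2 => h1.ge (D.cen g ?_ ?_)⟩, h2⟩
  · rwa [h2, show ev (defsQ.map (ev xs)) [0] = t from (mul_one _).trans D.z0] at e1
  · rwa [h2, show ev (defsQ.map (ev xs)) [1] = ev xs (defs.getD 1 []) from mul_one _] at e2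

theorem exists_rot {f : cl ms16 →* G} (L : Lq f) (hf : ∀ l, f (w l) = ev (defsQ.map (ev xs)) l)
    (h : ¬ IsIsolated t) : ∃ y, Rot f y := by
  have e0 : f (w [0]) = t := (hf _).trans ((mul_one _).trans D.z0)
  have e1 : ev xs (defs.getD 1 []) = f (w [1]) := ((hf _).trans (mul_one _)).symm
  obtain ⟨c0, c1, c2, c3, c4, -, c6, -⟩ := F8
  have t2 : t * t = 1 := by rw [← e0, ← map_mul, c1, map_one]
  have t1 : t ≠ 1 := fun e => L.ne.2.1 (by rw [map_mul, e0, e, one_mul])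
  have k : ∀ g, g * t * g⁻¹ ≠ t → g * t * g⁻¹ * t = t * (g * t * g⁻¹) →
      ∃ c, c * t * c⁻¹ = t ∧ c * f (w [1]) * c⁻¹ = g * t * g⁻¹ := fun g a b => by
    obtain ⟨c, a, b⟩ := D.cls _ (by rw [conj_mul, t2]; simp) (fun e => t1 (conj_eq_one_iff.mp e)) a b
    exact ⟨c, mul_inv_eq_iff_eq_mul.mpr a, e1 ▸ b⟩
  obtain ⟨g, h1, h2⟩ : ∃ g, Commute t (g * t * g⁻¹) ∧ g * t * g⁻¹ ≠ t := by simpa [IsIsolated] using h
  obtain ⟨c, -, h3⟩ := k g h2 h1.symm
  have h4 : c⁻¹ * g * t * (c⁻¹ * g)⁻¹ = f (w [1]) := conj_comp h3.symm (by group)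
  generalize c⁻¹ * g = x at h4
  have h5 : x⁻¹ * f (w [1]) * x⁻¹⁻¹ = t := by rw [← h4]; group
  obtain ⟨d, h6, h7⟩ := k x⁻¹ (fun e => L.ne.1 (by rw [e0, ← h4]; nth_rw 2 [← e]; group)) (by
    nth_rw 2 [← h5]
    nth_rw 2 [← h5]
    rw [conj_mul, conj_mul, ← e0, ← map_mul, ← map_mul, c0])
  have h8 : x * d * f (w [0]) * (x * d)⁻¹ = f (w [1]) := conj_comp (e0 ▸ h6) (e0 ▸ h4)
  have h9 : x * d * f (w [1]) * (x * d)⁻¹ = f (w [0]) := conj_comp h7 (by rw [e0]; group)
  exact ⟨x * d * f (w [6]), conj_comp (conj_f f (mul_inv_eq_iff_eq_mul.mpr (c0 _))) h8,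
    conj_comp (conj_f f c6) (by rw [map_mul, ← conj_mul, h8, h9, ← map_mul, ← map_mul, c0])⟩

theorem relY {f : cl ms16 →* G} (L : Lq f) (hf : ∀ l, f (w l) = ev (defsQ.map (ev xs)) l) {y : G} (hy : Pin f y)
    (hs : f (w [6]) * y * (f (w [6]) * y) = 1) : ∀ r ∈ relsY, ev (gl xs y) r = 1 := by
  have h1 : ∀ l, allL (Nat.blt · 9) l = true → f (w l) = ev (gl xs y) (l.map qx) := fun l hl => (hf l).trans (ev_q xs y hl).1
  have h2 : (gl xs y).getD 7 1 = y := rfl
  have h3 : (gl xs y).getD 8 1 = y⁻¹ := rfl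
  have h4 := L.cube hy
  have h5 : ∀ k ∈ [2, 4], ev (gl xs y) [7, k + 7, 7, k + 7, 7, k + 7, 7, k + 7, 7, k + 7] = 1 ∧
      ev (gl xs y) [7, k + 7, 8, k + 8, 7, k + 7, 8, k + 8, 7, k + 7, 8, k + 8, 7, k + 7, 8, k + 8, 7, k + 7, 8, k + 8] = 1 :=
    fun k hk => by
      obtain ⟨a1, a2, a3, a4, a5, a6⟩ := G2 k hk
      have b1 := D.gp y (u := []) a1 rfl a2
      have b2 := D.gp y a4 a5 a3
      have b3 : ∀ p < 16, (gl xs y).getD (k + 7) 1 * f (w (bw k p)) * ((gl xs y).getD (k + 7) 1)⁻¹ =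
          f (w (bw k (sa k p))) := fun p hp => by
        obtain ⟨-, c0, -, -, -, c1, c2⟩ := F5 k hk p hp
        obtain ⟨-, -, -, -, c3, c4, c5⟩ := F5 k hk _ c0
        rw [h1 _ c1, h1 _ c4, c2, c5, ← D.gp y (a6 p hp) c3 (F6 k hk p hp), ev_append, ev_append,
          inv_eq_of_mul_eq_one_right b1]
        simp only [ev, mul_one]
      have b4 : ∀ p < 16, y * f (w (bw k p)) * y⁻¹ = f (w (bw k (sy k p))) := fun p hp => by
        obtain ⟨-, -, c1, c2, -⟩ := F5 k hk p hp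
        rw [← c1, ← c2, act_ev f hy]
      have s1 : ∀ p < 16, sy k p < 16 := fun p hp => (F5 k hk p hp).1
      have s2 : ∀ p < 16, sa k p < 16 := fun p hp => (F5 k hk p hp).2.1
      have b5 := L.pow5 hk (fun p hp => s1 _ (s2 _ hp)) (fun p hp => conj_comp (b3 p hp) (b4 _ (s2 _ hp)))
        (F7 k hk (sy k ∘ sa k) List.mem_cons_self)
      have b6 := L.pow5 hk (fun p hp => s1 _ (s2 _ (s1 _ (s1 _ (s2 _ (s2 _ hp))))))
        (fun p hp => conj_comp (conj_comp (conj_comp (b3 p hp) (b3 _ (s2 _ hp))) (conj_comp (b4 _ (s2 _ (s2 _ hp)))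
          (b4 _ (s1 _ (s2 _ (s2 _ hp)))))) (conj_comp (b3 _ (s1 _ (s1 _ (s2 _ (s2 _ hp)))))
            (b4 _ (s2 _ (s1 _ (s1 _ (s2 _ (s2 _ hp))))))))
        (F7 k hk ((sy k ∘ sa k) ∘ (sy k ∘ sy k) ∘ sa k ∘ sa k) (List.mem_cons_of_mem _ List.mem_cons_self))
      simp only [ev, mul_one] at b2
      rw [eq_inv_of_mul_eq_one_left h4, ← b2] at b6
      simpa only [ev, h2, h3, pow_succ, pow_zero, one_mul, mul_one, mul_assoc] using And.intro b5 b6
  have h6 : ∀ j i u, y * f (w j) * y⁻¹ = f (w i) → allL (Nat.blt · 9) j = true → allL (Nat.blt · 9) i = true →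
      (allL isX (i.map qx ++ u) = true ∧ ev ms (i.map qx ++ u) = ev ms []) →
        ev (gl xs y) (7 :: (j.map qx ++ 8 :: u)) = 1 := fun j i u a hj hi b => by
    rw [ev, ev_append, ev, h2, h3, ← mul_assoc, ← mul_assoc, ← h1 j hj, a, h1 i hi, ← ev_append]
    exact D.gp y (u := []) b.1 rfl b.2
  have h7 := G1
  simp only [Pin, List.forall₂_cons] at hy
  obtain ⟨p0, p1, p2, p3, p4, p5, p6, -⟩ := hy
  rw [map_mul, hf [0], hf [1], ← ev_append, ← hf, ← hf] at p1
  rw [h1 [6] rfl] at hs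
  simp only [List.forall_mem_cons] at h5 h7
  obtain ⟨q0, q1, q2, q3, q4, q5, q6, -⟩ := h7
  simp only [relsY, List.forall_mem_cons]
  refine ⟨by simp only [ev, h2, h3, mul_one, mul_inv_cancel], by simp only [ev, h2, h3, mul_one, inv_mul_cancel],
    by simpa only [ev, h2, mul_one, mul_assoc] using h4, ?_, h6 _ _ _ p6 rfl rfl q6, h6 _ _ _ p0 rfl rfl q0,
    h6 _ _ _ p1 rfl rfl q1, h6 _ _ _ p2 rfl rfl q2, h6 _ _ _ p3 rfl rfl q3, h6 _ _ _ p4 rfl rfl q4,
    h6 _ _ _ p5 rfl rfl q5, h5.1.1, h5.2.1.1, h5.1.2, h5.2.1.2, by simp⟩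
  change ev _ [6] * _ * (ev _ [6] * _) = 1 at hs
  simpa only [ev, h2, mul_one, mul_assoc] using hs

theorem relA {y : G} (hy : ∀ r ∈ relsY, ev (gl xs y) r = 1) : ∀ r ∈ relsA, ev (gl xs y) r = 1 := by
  obtain ⟨m1, m2, m3⟩ := ms_relA
  have m4 := fun r hr => of_decide_eq_true (allL_iff.mp ms_rel r (List.mem_append_right _ hr))
  have h0 : ∀ r, allL isX r = true → ev ms r = 1 → ev (gl xs y) r = 1 := fun r a b => D.gp y (u := []) a rfl b
  have h1 : ∀ r ∈ relsX ++ relsY, ev (gl xs y) r = 1 := List.forall_mem_append.mpr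
    ⟨fun r hr => h0 r (allL_iff.mp G3.1 r hr) (m1 r (List.mem_append_left _ hr)), hy⟩
  have h2 : ∀ subs : List (List ℕ), allL (allL isX) subs = true →
      ∀ r ∈ subs, ∃ v, ev ms r = ev xsM v ∧ ev (gl xs y) r = ev xs v := fun subs h r hr =>
    ⟨_, ev_ms (allL_iff.mp h r hr), ev_gl xs y (allL_iff.mp h r hr)⟩
  have h3 : ∀ v, ev xsM v = 1 → ev xs v = 1 := fun v => D.rel v []
  have l3 : xsM.length = xs.length := D.len.symm
  have h4 : ∀ r ∈ relsX ++ relsY ++ relsD, ev (gl xs y) r = 1 := List.forall_mem_append.mpr ⟨h1, by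
    simp only [relsD, List.forall_mem_cons]
    exact ⟨step rfl rfl l3 h3 memA m1 h1 (h2 _ rfl) _ List.mem_cons_self (m2 _ (by decide)),
      step rfl rfl l3 h3 memB m1 h1 (h2 _ rfl) _ List.mem_cons_self (m2 _ (by decide)), by simp⟩⟩
  have h5 := step rfl rfl l3 h3 mem1 m2 h4 (h2 _ rfl)
  have h6 := step rfl rfl l3 h3 mem2 m2 h4 (h2 _ rfl)
  simp only [List.forall_mem_cons] at m4 h5 h6
  obtain ⟨a1, a2, a3, a4, -, a5, a6, -⟩ := m4
  refine List.forall_mem_append.mpr ⟨h4, List.forall_mem_singleton.mpr (relE_of ?_)⟩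
  simp only [List.forall_mem_cons]
  exact ⟨h1 _ (by decide), h1 _ (by decide), h1 _ (by decide), h1 _ (by decide), h1 _ (by decide), h1 _ (by decide),
    h1 _ (by decide), h5.1 a1, h5.2.1 a2, h6.1 a3, h6.2.1 a4, h0 _ rfl a5, h0 _ rfl a6, by simp⟩

theorem iso (t1 : t ≠ 1) (h : ¬ IsIsolated t) : Nonempty (G ≃* Spor.McL) := by
  obtain ⟨f, L, hf⟩ := D.exists_lq
  obtain ⟨y, hy⟩ := D.exists_rot L hf h
  obtain ⟨y, hy, hs⟩ := L.exists_pin' hy
  obtain ⟨F, hF⟩ := exists_hom_words (ms := ms) (gs := gl xs y) rfl (fun l hl => presA l hl) low_ms ms_relA.2.2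
    (D.relA (D.relY L hf hy hs))
  have h1 : ∀ v, F (el ms v) = ev (gl xs y) v := hF
  have h2 : F (el ms [0]) = t := (h1 _).trans ((mul_one _).trans D.z0)
  have h3 : F (el ms [1]) = ev xs (defs.getD 1 []) := (h1 _).trans (mul_one _)
  obtain ⟨s, hs, s1, s2, s3⟩ := cent_11
  obtain ⟨-, g1, g2, g3, g4⟩ := G3
  refine mcl_equiv.map (MulEquiv.ofBijective F (bij_of_model (le_antisymm (presA ms rfl ms_relA.2.2) low_ms) F
    (t := el ms [0]) (e := el ms [1]) (y := el ms [7]) (s := ⟨s, hs⟩) (Subtype.ext ((ev_append ms [0] [0]).symm.trans g1))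
    (h2 ▸ t1) (Subtype.ext g2) (Subtype.ext g3) ?_ (fun g hg => ?_) (h2 ▸ D.card) (by rw [h2, h3]; exact D.cls)
    (Subtype.ext s1) (fun e => s2 (congrArg Subtype.val e)) ((card_cen _).trans_le s3))).symm.trans
  · rw [card_cen, show (el ms [0]).1 = ms.getD 0 1 from mul_one _]
    exact cent_t
  · rw [h2, ← D.top] at hg
    obtain ⟨v, rfl⟩ := exists_word hg
    have h4 : allL isX (v.flatMap fun a => back.getD a []) = true := allL_iff.mpr fun a ha => by
      obtain ⟨b, -, hb⟩ := List.mem_flatMap.mp ha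
      by_cases e : b < back.length
      · rw [List.getD_eq_getElem _ _ e] at hb
        exact allL_iff.mp (allL_iff.mp back_chk.2 _ (List.getElem_mem e)) a hb
      · rw [List.getD_eq_default _ _ (not_lt.mp e)] at hb
        cases hb
    have h5 : ev ms (v.flatMap fun a => back.getD a []) = ev xsM v := by rw [← ev_subst, ← back_chk.1]
    refine ⟨el ms (v.flatMap fun a => back.getD a []), mem_centralizer_singleton_iff.mpr (Subtype.ext ?_), ?_⟩
    · have h6 := comm_ev g4 v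
      rw [← h5] at h6
      exact h6
    · rw [h1, ev_gl xs y h4]
      exact D.rel _ _ (by rw [← ev_ms h4, h5])

end Dg

end Cfsg.Agent.McL
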