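import Cfsg.Agent.McL.QData
import Cfsg.Agent.M12C.Loc

/-! Finite computations in the normalizer of the four-group. -/

set_option autoImplicit false
set_option maxRecDepth 100000
set_option synthInstance.maxSize 4000

namespace Cfsg.Agent.McL

open Cfsg.Agent.Mat Cfsg.Agent.M12C

/-- Words in the model. -/
@[irreducible] def w (l : List ℕ) : cl ms16 := el ms16 l

theorem w_eq : w = el ms16 := by funext; rw [w]

/-- Generators of the centralizer of the four-group. -/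
abbrev j3 : List (cl ms16) := [w [7], w [2], w [4]]

/-- Words for some elements. -/
abbrev W8 : List (List ℕ) := [[1], [0, 1, 0, 0], [0, 0, 1, 0], [2], [0, 2, 0, 0], [0, 0, 2, 0]]

/-- The element has a word. -/
abbrev Ok (g : cl ms16) : Prop := ev j3 (wd j3 W8 g) = g

/-- The fourth power of the substitution. -/
abbrev Ok4 (is : List (cl ms16)) (g g' : cl ms16) : Prop :=
  Ok g ∧ Ok (al j3 is W8 g) ∧ Ok (al j3 is W8 (al j3 is W8 g)) ∧ Ok (al j3 is W8 (al j3 is W8 (al j3 is W8 g))) ∧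
    al j3 is W8 (al j3 is W8 (al j3 is W8 (al j3 is W8 g))) = g'

theorem F1 : ∀ c : cl ms16, c * w [1] = w [1] * c → c * c * c = 1 → c = 1 ∨
    ∃ x, x * w [1] = w [1] * x ∧ (x * c * x⁻¹ = w [7] ∨ x * c * x⁻¹ = w [7] * w [7]) := by decide +kernel

theorem F2 : ∀ i0 ∈ [w [7], w [7] * w [7]], ∀ i1, i1 * w [1] = w [1] * i1 →
    (∀ v ∈ [[1, 1], [1, 0, 1, 0, 1, 0]], Rel (w [0]) (w [1]) [w [7], w [2]] [i0, i1] v) →
    ∀ i2, i2 * w [1] = w [1] * i2 → (∀ v ∈ [[1, 1], [1, 0, 1, 0, 1, 0]], Rel (w [0]) (w [1]) [w [7], w [4]] [i0, i2] v) →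
    (∀ v ∈ [[1, 2, 1, 2], [1, 0, 2, 0, 0, 1, 0, 2, 0, 0]], Rel (w [0]) (w [1]) j3 [i0, i1, i2] v) →
    ∃ j ∈ [1, w [7], w [7] * w [7]], Ok4 [i0, i1, i2] (j * w [2] * j⁻¹) (w [3]) ∧
      Ok4 [i0, i1, i2] (j * w [4] * j⁻¹) (w [4, 5]) := by decide +kernel

theorem F3 : ∀ c : cl ms16, c * w [7] = w [7] * c → c * w [2] = w [2] * c → c * w [4] = w [4] * c →
    c = 1 ∨ c = w [0] ∨ c = w [1] ∨ c = w [0] * w [1] := by decide +kernel

/-- Words for an elementary abelian group of order sixteen. -/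
def bw (k p : ℕ) : List ℕ :=
  (if p.testBit 0 then [0] else []) ++ (if p.testBit 1 then [1] else []) ++ (if p.testBit 2 then [k] else []) ++
    if p.testBit 3 then [k + 1] else []

theorem F4 : ∀ k ∈ [2, 4], (∀ c : cl ms16, c * w (bw k 2) = w (bw k 2) * c → c * w (bw k 4) = w (bw k 4) * c →
    c * w (bw k 8) = w (bw k 8) * c → ∃ p < 16, w (bw k p) = c) ∧ (∀ p < 16, ∀ q < 16, w (bw k p) = w (bw k q) → p = q) ∧
    w (bw k 0) = 1 ∧ w (bw k 1) = w [0] ∧ w (bw k 2) = w [1] := by decide +kernel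

/-- Generators of the centralizer of the four-group. -/
abbrev j7 : List (cl ms16) := [w [0], w [1], w [2], w [3], w [4], w [5], w [7]]

/-- Their images. -/
abbrev i7 : List (cl ms16) := [w [1], w [0] * w [1], w [3], w [2, 3], w [4, 5], w [4], w [7]]

/-- The action of the new generator. -/
def sy (k p : ℕ) : ℕ :=
  lk (if k = 2 then 0x50706040d0f0e0c090b0a0801030200 else 0x90b0a08050706040d0f0e0c01030200) p

/-- The action of an old generator. -/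
def sa (k p : ℕ) : ℕ :=
  lk (if k = 2 then 0x9080d0c0e0f0a0b0203060705040100 else 0xf0e09080d0c0b0a0504030207060100) p

theorem F5 : ∀ k ∈ [2, 4], ∀ p < 16, sy k p < 16 ∧ sa k p < 16 ∧ ev j7 (bw k p) = w (bw k p) ∧
    ev i7 (bw k p) = w (bw k (sy k p)) ∧ allL isX (bw k p) = true ∧ allL (Nat.blt · 9) (bw k p) = true ∧
    (bw k p).map qx = bw k p := by decide +kernel

theorem F6 : ∀ k ∈ [2, 4], ∀ p < 16, ev ms ([k + 7] ++ bw k p ++ [k + 8]) = ev ms (bw k (sa k p)) := by decide +kernel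

theorem F7 : ∀ k ∈ [2, 4], ∀ σ ∈ [sy k ∘ sa k, (sy k ∘ sa k) ∘ (sy k ∘ sy k) ∘ sa k ∘ sa k],
    ∀ p < 16, σ (σ (σ (σ (σ p)))) = p ∧ (σ p = p → p = 0) := by decide +kernel

theorem F8 : (∀ c : cl ms16, c * w [0] = w [0] * c) ∧ w [0] * w [0] = 1 ∧ w [1] * w [1] = 1 ∧ w [1] ≠ 1 ∧ w [1] ≠ w [0] ∧
    w [6] * w [6] = 1 ∧ w [6] * w [1] * (w [6])⁻¹ = w [0] * w [1] ∧ w [7] * w [7] * w [7] = 1 ∧ w [7] ≠ 1 ∧
    (∀ j ∈ j7, j * w [1] = w [1] * j) ∧ w [7] * w [2] * (w [7])⁻¹ = w [3] ∧ w [7] * w [4] * (w [7])⁻¹ = w [5] ∧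
    w [7] * w [3] * (w [7])⁻¹ = w [2, 3] ∧ w [7] * w [4, 5] * (w [7])⁻¹ = w [4] := by decide +kernel

theorem F9 : (∀ p ∈ [([0], [0, 1]), ([2], [2, 3]), ([4], [5]), ([6], [6, 6])],
    w [6] * ev i7 p.1 * (w [6])⁻¹ = ev j7 p.2 ∧ w [6] * ev i7 p.2 * (w [6])⁻¹ = ev j7 p.1) ∧
    (∀ p ∈ [([0], [1], [0, 1]), ([2], [3], [2, 3]), ([4], [4, 5], [5]), ([6], [6], [6])],
      ev i7 p.1 = ev j7 p.2.1 ∧ ev i7 p.2.1 = ev j7 p.2.2 ∧ ev i7 p.2.2 = ev j7 p.1) := by decide +kernel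

end Cfsg.Agent.McL
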